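import Groth.Agent.S9687
import Groth.Agent.S9798
import Groth.Agent.AlgSp3.DimFacts
import Mathlib.AlgebraicGeometry.Morphisms.QuasiFinite

/-!
# Quasi-finiteness over points of codimension at most one
-/

set_option autoImplicit false
set_option backward.isDefEq.respectTransparency.types false
universe u

open CategoryTheory CategoryTheory.Limits AlgebraicGeometry

namespace Groth.QfCodim

variable {X Y : Scheme.{u}} (f : X ⟶ Y) [LocallyOfFiniteType f]

theorem quasiFiniteAt_iff (x : X) : f.QuasiFiniteAt x ↔ FlatMor.fibreDimAt f x = 0 := by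
  have : LocallyOfFiniteType (f.fiberToSpecResidueField (f x)) :=
    inferInstanceAs (LocallyOfFiniteType (pullback.snd f (Y.fromSpecResidueField (f x))))
  have : IsLocallyNoetherian (f.fiber (f x)) :=
    LocallyOfFiniteType.isLocallyNoetherian (f.fiberToSpecResidueField (f x))
  rw [Scheme.Hom.quasiFiniteAt_iff_isOpen_singleton_asFiber]
  exact (Groth.Agent.S9798.result _ _).symm

/-- Quasi-finiteness in terms of the position of the point in its fibre. -/
theorem quasiFiniteAt_iff_height (x : X) : f.QuasiFiniteAt x ↔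
    Order.height (f.asFiber x) = 0 ∧ Order.coheight (f.asFiber x) = 0 := by
  rw [quasiFiniteAt_iff, Groth.FibreDim.fibreDimAt_eq_height_add, ringKrullDim_stalk_eq_coheight,
    ← WithBot.coe_add, WithBot.coe_eq_zero, add_eq_zero]

theorem resTrdeg_eq_zero_of_quasiFiniteAt {x : X} (hx : f.QuasiFiniteAt x) :
    Dual3.resTrdeg f x = 0 := by
  obtain ⟨n, hn, hn'⟩ := Groth.FibreDim.exists_relTrdeg_eq_height f x
  rw [((quasiFiniteAt_iff_height f x).1 hx).1] at hn'
  have : n = 0 := by exact_mod_cast hn'.symm
  rw [this] at hn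
  exact_mod_cast hn

theorem closure_mem_irreducibleComponents_iff {ξ : X} :
    closure {ξ} ∈ irreducibleComponents (X : Type u) ↔ Order.coheight ξ = 0 := by
  rw [Order.coheight_eq_zero]
  constructor
  · intro h z hz
    have h1 : closure {ξ} ⊆ closure ({z} : Set X) := (Scheme.le_iff_specializes.1 hz).closure_subset
    have h2 := h.2 isIrreducible_singleton.closure h1
    exact Scheme.le_iff_specializes.2 (specializes_iff_mem_closure.2 (h2 (subset_closure rfl)))
  · intro h
    refine ⟨isIrreducible_singleton.closure, fun Z hZ hle => ?_⟩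
    obtain ⟨z, hz⟩ := QuasiSober.sober hZ.closure isClosed_closure
    have h1 : z ⤳ ξ := hz.specializes (subset_closure (hle (subset_closure rfl)))
    have h2 := Scheme.le_iff_specializes.1 (h (Scheme.le_iff_specializes.2 h1))
    intro w hw
    exact specializes_iff_mem_closure.1 (h2.trans (hz.specializes (subset_closure hw)))

/-- A morphism locally of finite type over a locally Noetherian scheme which is quasi-finite at the
generic points specializing to `x` is quasi-finite at `x` if `f x` has codimension at most one. -/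
theorem quasiFiniteAt_of_codim_le_one [IsLocallyNoetherian Y] (x : X)
    (hy : ringKrullDim (Y.presheaf.stalk (f x)) ≤ 1)
    (hgen : ∀ ξ : X, ξ ⤳ x → Order.coheight ξ = 0 → f.QuasiFiniteAt ξ) : f.QuasiFiniteAt x := by
  obtain ⟨n, hn, hn'⟩ := Groth.FibreDim.exists_relTrdeg_eq_height f x
  have hdim : ringKrullDim (X.presheaf.stalk x) + n ≤ 1 := by
    refine (Groth.Agent.S9687.result f x n 0 hn fun ξ hξ hs => ?_).trans ?_
    · have := resTrdeg_eq_zero_of_quasiFiniteAt f
        (hgen ξ hs (closure_mem_irreducibleComponents_iff.1 hξ))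
      exact this.le.trans (Nat.cast_nonneg _)
    · simpa using hy
  rw [ringKrullDim_stalk_eq_coheight] at hdim
  have hdim' : Order.coheight x + (n : ℕ∞) ≤ 1 := by exact_mod_cast hdim
  have hn0 : n = 0 := by
    by_contra hne
    have h1 : (1 : ℕ∞) ≤ n := by exact_mod_cast Nat.one_le_iff_ne_zero.2 hne
    have h2 : Order.coheight x + (n : ℕ∞) ≤ 0 + (n : ℕ∞) := hdim'.trans (by simpa using h1)
    have h3 : Order.coheight x = 0 :=
      nonpos_iff_eq_zero.1 ((WithTop.add_le_add_iff_right (WithTop.natCast_ne_top n)).1 h2)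
    have := ((quasiFiniteAt_iff_height f x).1 (hgen x specializes_rfl h3)).1
    rw [hn'] at this
    exact hne (by exact_mod_cast this)
  refine (quasiFiniteAt_iff_height f x).2 ⟨by rw [hn', hn0]; rfl, ?_⟩
  rw [Order.coheight_eq_zero]
  intro z hz
  by_contra hne
  have hlt : f.asFiber x < z := lt_of_le_not_ge hz hne
  have hx0 : Order.coheight x ≤ 1 := le_self_add.trans hdim'
  -- the image of `z` in `X` is a strict generalisation of `x`
  have hs : f.fiberι (f x) z ⤳ x := by
    have := (Scheme.le_iff_specializes.1 hz).map (f.fiberι (f x)).continuous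
    rwa [f.fiberι_asFiber] at this
  have hlt' : x < f.fiberι (f x) z := by
    refine lt_of_le_not_ge (Scheme.le_iff_specializes.2 hs) fun h => hne ?_
    rw [Scheme.le_iff_specializes]
    refine (f.fiberι (f x)).isEmbedding.isInducing.specializes_iff.1 ?_
    rw [f.fiberι_asFiber]
    exact Scheme.le_iff_specializes.1 h
  have hz0 : Order.coheight (f.fiberι (f x) z) = 0 := by
    have h := (Order.coheight_add_one_le hlt').trans hx0
    exact nonpos_iff_eq_zero.1 ((WithTop.add_le_add_iff_right WithTop.one_ne_top).1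
      (h.trans_eq (zero_add 1).symm))
  have key : ∀ (y : Y) (z : f.fiber y), f.QuasiFiniteAt (f.fiberι y z) →
      Order.height z = 0 := fun y z hq => by
    have hy' : f (f.fiberι y z) = y := by
      rw [← Scheme.Hom.comp_apply, f.fiber_fac y]
      exact Y.fromSpecResidueField_apply y _
    generalize hw : f.fiberι y z = w at hq hy'
    subst hy'
    have e : f.asFiber w = z :=
      (f.fiberι _).isEmbedding.injective ((f.fiberι_asFiber _).trans hw.symm)
    rw [← e]
    exact ((quasiFiniteAt_iff_height f _).1 hq).1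
  have h0 := key _ z (hgen _ hs hz0)
  exact (Order.height_eq_zero.1 h0).not_lt hlt

/-- At a point of codimension zero, quasi-finiteness is vanishing of the transcendence degree. -/
theorem quasiFiniteAt_of_trdeg_zero {x : X} (hx : Order.coheight x = 0)
    (ht : Dual3.resTrdeg f x = 0) : f.QuasiFiniteAt x := by
  obtain ⟨n, hn, hn'⟩ := Groth.FibreDim.exists_relTrdeg_eq_height f x
  change Dual3.resTrdeg f x = n at hn
  rw [ht] at hn
  have : n = 0 := by exact_mod_cast hn.symm
  refine (quasiFiniteAt_iff_height f x).2 ⟨by rw [hn', this]; rfl, ?_⟩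
  rw [Order.coheight_eq_zero] at hx ⊢
  intro z hz
  have hs : f.fiberι (f x) z ⤳ x := by
    have := (Scheme.le_iff_specializes.1 hz).map (f.fiberι (f x)).continuous
    rwa [f.fiberι_asFiber] at this
  rw [Scheme.le_iff_specializes]
  refine (f.fiberι (f x)).isEmbedding.isInducing.specializes_iff.1 ?_
  rw [f.fiberι_asFiber]
  exact Scheme.le_iff_specializes.1 (hx (Scheme.le_iff_specializes.2 hs))

/-- A dense open of a locally Noetherian scheme contains all points of codimension zero. -/
theorem mem_of_dense_of_coheight_eq_zero {A : Scheme.{u}} [IsLocallyNoetherian A] {O : Set A}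
    (hO : IsOpen O) (hd : Dense O) {ξ : A} (hξ : Order.coheight ξ = 0) : ξ ∈ O := by
  obtain ⟨W, hW, hξW, -⟩ := exists_isAffineOpen_mem_and_subset (X := A) (x := ξ) (U := ⊤) trivial
  have : IsAffine W.toScheme := hW
  have : IsNoetherian W.toScheme := ⟨⟩
  let ξ' : W.toScheme := ⟨ξ, hξW⟩
  have hmono : StrictMono (W.ι : W.toScheme → A) := fun a b hab => by
    have hba : b ⤳ a := Scheme.le_iff_specializes.1 hab.le
    refine lt_iff_le_not_ge.mpr ⟨Scheme.le_iff_specializes.2 (hba.map W.ι.continuous), fun h => ?_⟩
    exact hab.not_ge (Scheme.le_iff_specializes.2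
      (W.ι.isEmbedding.isInducing.specializes_iff.1 (Scheme.le_iff_specializes.1 h)))
  have hξ' : Order.coheight ξ' = 0 := nonpos_iff_eq_zero.1
    ((Order.coheight_le_coheight_apply_of_strictMono _ hmono ξ').trans hξ.le)
  obtain ⟨O₁, hO₁, hne, hsub⟩ :=
    TopologicalSpace.NoetherianSpace.exists_isOpen_nonempty_subset_irreducibleComponent
      (closure {ξ'}) (closure_mem_irreducibleComponents_iff.2 hξ')
  obtain ⟨_, hw, w, hw₁, rfl⟩ := dense_iff_inter_open.1 hd (W.ι '' O₁)
    (W.ι.isOpenEmbedding.isOpenMap _ hO₁) (hne.image _) |>.imp fun _ h => And.symm h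
  exact ((specializes_iff_mem_closure.2 (hsub hw₁)).map W.ι.continuous).mem_open hO hw

/-- The local ring at `f x` may be an arbitrary Noetherian ring of dimension at most one. -/
theorem quasiFiniteAt_of_stalk_dim_le_one (x : X) [IsNoetherianRing (Y.presheaf.stalk (f x))]
    (hy : ringKrullDim (Y.presheaf.stalk (f x)) ≤ 1)
    (hgen : ∀ ξ : X, ξ ⤳ x → Order.coheight ξ = 0 → f.QuasiFiniteAt ξ) : f.QuasiFiniteAt x := by
  let i := Y.fromSpecStalk (f x)
  let c : Spec (Y.presheaf.stalk (f x)) := IsLocalRing.closedPoint (Y.presheaf.stalk (f x))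
  have hc : i c = f x := Scheme.fromSpecStalk_closedPoint
  obtain ⟨x', hx₁, hx₂⟩ := Scheme.Pullback.exists_preimage_pullback (f := f) (g := i) x c hc.symm
  let g' := pullback.fst f i
  have hpb := IsPullback.of_hasPullback f i
  have hqf : ∀ z, (pullback.snd f i).QuasiFiniteAt z ↔ f.QuasiFiniteAt (g' z) := fun z => by
    rw [quasiFiniteAt_iff, quasiFiniteAt_iff,
      Groth.FibreDim.fibreDimAt_baseChange f i (pullback.snd f i) g' hpb z]
  have hmono : StrictMono (i : _ → Y) := fun a b hab => by
    have hba : b ⤳ a := Scheme.le_iff_specializes.1 hab.le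
    refine lt_iff_le_not_ge.mpr ⟨Scheme.le_iff_specializes.2 (hba.map i.continuous), fun h => ?_⟩
    exact hab.not_ge (Scheme.le_iff_specializes.2
      (i.isEmbedding.isInducing.specializes_iff.1 (Scheme.le_iff_specializes.1 h)))
  have hpre : IsPreimmersion g' :=
    MorphismProperty.of_isPullback (P := @IsPreimmersion) hpb.flip inferInstance
  rw [← hx₁, ← hqf]
  refine quasiFiniteAt_of_codim_le_one _ x' ?_ fun ξ' hs hξ' => ?_
  · rw [hx₂, ringKrullDim_stalk_eq_coheight]
    refine le_trans ?_ hy
    rw [ringKrullDim_stalk_eq_coheight (X := Y) (f x)]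
    exact WithBot.coe_le_coe.2 ((Order.coheight_le_coheight_apply_of_strictMono _ hmono c).trans
      (congrArg Order.coheight hc).le)
  · rw [hqf]
    refine hgen _ ((hs.map g'.continuous).trans (specializes_of_eq hx₁)) ?_
    rw [Order.coheight_eq_zero] at hξ' ⊢
    intro z hz
    have hz' : z ⤳ g' ξ' := Scheme.le_iff_specializes.1 hz
    have hfz : f z ⤳ f x := by
      exact (hz'.trans ((hs.map g'.continuous).trans (specializes_of_eq hx₁))).map f.continuous
    obtain ⟨w, hw⟩ : f z ∈ Set.range i := Scheme.range_fromSpecStalk.symm ▸ hfz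
    obtain ⟨z', rfl, -⟩ := Scheme.Pullback.exists_preimage_pullback (f := f) (g := i) z w hw.symm
    exact Scheme.le_iff_specializes.2 ((Scheme.le_iff_specializes.1 (hξ'
      (Scheme.le_iff_specializes.2 (g'.isEmbedding.isInducing.specializes_iff.1 hz')))).map
        g'.continuous)

theorem coheight_eq_zero_of_isGenericPoint {A : Scheme.{u}} {ξ : A} {Z : Set A}
    (hZ : Z ∈ irreducibleComponents (A : Type u)) (h : IsGenericPoint ξ Z) : Order.coheight ξ = 0 :=
  closure_mem_irreducibleComponents_iff.1 ((show closure {ξ} = Z from h) ▸ hZ)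

end Groth.QfCodim
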